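import Groth.Agent.FlatDescent.CM.Forward
import Groth.Agent.FlatDescent.Point
import Groth.Agent.FlatDescent.Scheme
import Groth.Agent.FibrewiseCrit.LQF
import Groth.Agent.GeomUnib.EquidimLocal

/-!
# Cohen–Macaulay morphisms and maps to affine space
-/

universe u

open CategoryTheory CategoryTheory.Limits AlgebraicGeometry TopologicalSpace
open Groth.Agent

namespace Groth.FlatDescent.CM

variable {X Y : Scheme.{u}}

theorem exists_affine_le {Z : Scheme.{u}} {z : Z} (O : Z.Opens) (h : z ∈ O) :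
    ∃ V : Z.Opens, IsAffineOpen V ∧ z ∈ V ∧ V ≤ O := by
  obtain ⟨_, ⟨V, hV, rfl⟩, hzV, hle⟩ := Z.isBasis_affineOpens.exists_subset_of_mem_open h O.2
  exact ⟨V, hV, hzV, hle⟩

/-- Cohen–Macaulay at a point in affine charts. -/
theorem isCMAt_chart_iff (f : X ⟶ Y) {V : Y.Opens} (hV : IsAffineOpen V) {W : X.Opens} (hW : IsAffineOpen W)
    (e : W ≤ f ⁻¹ᵁ V) (P : PrimeSpectrum Γ(X, W)) :
    letI := (f.appLE V W e).hom.toAlgebra
    MoreMor.IsCMAt f (hW.fromSpec P) ↔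
      MoreMor.IsCMAt (Spec.map (CommRingCat.ofHom (algebraMap Γ(Y, V) Γ(X, W)))) P := by
  letI := (f.appLE V W e).hom.toAlgebra
  have h1 := isCMAt_openImmersion_comp hW.fromSpec f P
  have h2 := isCMAt_comp_openImmersion (Spec.map (f.appLE V W e)) hV.fromSpec P
  rw [IsAffineOpen.SpecMap_appLE_fromSpec f hV hW e] at h2
  exact h1.symm.trans h2

/-- At a Cohen–Macaulay point there is a flat quasi-finite map to affine space on a neighbourhood. -/
theorem exists_toAffineSpace_of_isCMAt (f : X ⟶ Y) [LocallyOfFinitePresentation f] (x : X)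
    (h : MoreMor.IsCMAt f x) :
    ∃ (n : ℕ) (U : X.Opens) (_ : x ∈ U) (g : (U : Scheme.{u}) ⟶ 𝔸(ULift.{u} (Fin n); Y)),
      g ≫ (𝔸(ULift.{u} (Fin n); Y) ↘ Y) = U.ι ≫ f ∧ Flat g ∧ LocallyQuasiFinite g := by
  obtain ⟨V, hV, hxV, -⟩ := exists_affine_le (⊤ : Y.Opens) (z := f x) trivial
  obtain ⟨W, hW, hxW, e⟩ := exists_affine_le (f ⁻¹ᵁ V) (z := x) hxV
  letI := (f.appLE V W e).hom.toAlgebra
  haveI : Algebra.FinitePresentation Γ(Y, V) Γ(X, W) :=
    HasRingHomProperty.appLE @LocallyOfFinitePresentation f inferInstance ⟨V, hV⟩ ⟨W, hW⟩ e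
  let P := hW.primeIdealOf ⟨x, hxW⟩
  have hP : hW.fromSpec P = x := hW.fromSpec_primeIdealOf ⟨x, hxW⟩
  obtain ⟨C', j, hj, N, Φ, hover, w, hw, hflat, hqf⟩ :=
    exists_affine_chart_of_isCMAt P ((isCMAt_chart_iff f hV hW e P).mp (by rwa [hP]))
  let k := j ≫ hW.fromSpec
  let G := Spec.map Φ ≫ GeomUnib.jA N hV
  have hG : G ≫ (𝔸(ULift.{u} (Fin N); Y) ↘ Y) = k ≫ f := by
    simp only [G, Category.assoc, GeomUnib.jA_over]
    rw [MvPolynomial.algebraMap_eq] at hover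
    rw [reassoc_of% hover]
    simp only [k, Category.assoc]
    rw [← IsAffineOpen.SpecMap_appLE_fromSpec f hV hW e]
    rfl
  haveI : LocallyOfFinitePresentation (G ≫ (𝔸(ULift.{u} (Fin N); Y) ↘ Y)) := by rw [hG]; infer_instance
  haveI : LocallyOfFiniteType (G ≫ (𝔸(ULift.{u} (Fin N); Y) ↘ Y)) := inferInstance
  haveI : LocallyOfFiniteType G := locallyOfFiniteType_of_comp G (𝔸(ULift.{u} (Fin N); Y) ↘ Y)
  haveI : LocallyOfFiniteType (Spec.map Φ) := locallyOfFiniteType_of_comp (Spec.map Φ) (GeomUnib.jA N hV)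
  obtain ⟨W₁, hwW₁, hW₁⟩ := (Groth.FibrewiseCrit.exists_nhd_locallyQuasiFinite_iff (Spec.map Φ) w).mpr hqf
  let Fl : (Spec C').Opens := ⟨{z | (G.stalkMap z).hom.Flat}, isOpen_flatLocus_over G (𝔸(ULift.{u} (Fin N); Y) ↘ Y)⟩
  have hwFl : w ∈ Fl := flat_stalkMap_comp (Spec.map Φ) (GeomUnib.jA N hV) w hflat (Flat.stalkMap _ _)
  let O := W₁ ⊓ Fl
  let k₀ := O.ι ≫ k
  let U : X.Opens := k₀.opensRange
  let θ : (U : Scheme.{u}) ≅ (O : Scheme.{u}) :=
    IsOpenImmersion.isoOfRangeEq U.ι k₀ (by rw [Scheme.Opens.range_ι]; rfl)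
  have hθ : θ.hom ≫ k₀ = U.ι := IsOpenImmersion.isoOfRangeEq_hom_fac _ _ _
  refine ⟨N, U, ⟨⟨w, hwW₁, hwFl⟩, ?_⟩, θ.hom ≫ O.ι ≫ G, ?_, ?_, ?_⟩
  · show hW.fromSpec (j w) = x
    rw [hw, hP]
  · simp only [Category.assoc, hG]
    rw [← Category.assoc O.ι, ← Category.assoc]
    exact congrArg (· ≫ f) hθ
  · haveI : Flat (O.ι ≫ G) := (Flat.iff_flat_stalkMap _).mpr fun z =>
      flat_stalkMap_comp O.ι G z (Flat.stalkMap _ _) z.2.2
    infer_instance
  · haveI := hW₁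
    haveI : LocallyQuasiFinite (O.ι ≫ G) := by
      rw [← (Spec C').homOfLE_ι (inf_le_left : O ≤ W₁)]
      simp only [G, Category.assoc]
      rw [← Category.assoc W₁.ι]
      infer_instance
    infer_instance

/-- Flatness of a localisation from a factorisation of a flat map. -/
theorem flat_localization_of_fac {R C : Type u} [CommRing R] [CommRing C] [Algebra R C] {Z : Scheme.{u}}
    (r : Spec (CommRingCat.of R) ⟶ Z) [IsOpenImmersion r] {S : Scheme.{u}} (k : Spec (CommRingCat.of C) ⟶ S)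
    [IsOpenImmersion k] (g : S ⟶ Z) (hfac : k ≫ g = Spec.map (CommRingCat.ofHom (algebraMap R C)) ≫ r)
    (P : PrimeSpectrum C) (hflat : (g.stalkMap (k P)).hom.Flat) : Module.Flat R (Localization.AtPrime P.asIdeal) := by
  have h1 : ((k ≫ g).stalkMap P).hom.Flat := flat_stalkMap_comp k g P (Flat.stalkMap _ _) hflat
  generalize hψ : Spec.map (CommRingCat.ofHom (algebraMap R C)) = ψ at hfac
  rw [hfac] at h1
  have h2 := flat_stalkMap_of_comp_etale ψ r P h1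
  subst hψ
  exact (flat_stalkMap_Spec_iff P).mp h2

theorem flat_localization_of_fac' {R : Type u} [CommRing R] {C : CommRingCat.{u}} (ψ : R →+* C) {Z : Scheme.{u}}
    (r : Spec (CommRingCat.of R) ⟶ Z) [IsOpenImmersion r] {S : Scheme.{u}} (k : Spec C ⟶ S)
    [IsOpenImmersion k] (g : S ⟶ Z) (hfac : k ≫ g = Spec.map (CommRingCat.ofHom ψ) ≫ r)
    (P : PrimeSpectrum C) (x : S) (hx : k P = x) (hflat : (g.stalkMap x).hom.Flat) :
    letI := ψ.toAlgebra
    Module.Flat R (Localization.AtPrime P.asIdeal) := by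
  letI := ψ.toAlgebra
  subst hx
  exact flat_localization_of_fac (C := C) r k g hfac P hflat

/-- Charts at a point where a map to affine space is quasi-finite and flat. -/
theorem exists_chart_flat (f : X ⟶ Y) [LocallyOfFiniteType f] {n : ℕ} (U : X.Opens)
    (g : (U : Scheme.{u}) ⟶ 𝔸(ULift.{u} (Fin n); Y)) (hg : g ≫ (𝔸(ULift.{u} (Fin n); Y) ↘ Y) = U.ι ≫ f)
    [LocallyQuasiFinite g] (u : U) (hflat : (g.stalkMap u).hom.Flat) :
    ∃ (V : Y.Opens) (hV : IsAffineOpen V) (W : (U : Scheme.{u}).Opens) (hW : IsAffineOpen W)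
      (e : W ≤ (U.ι ≫ f) ⁻¹ᵁ V) (hu : u ∈ W),
      letI := ((U.ι ≫ f).appLE V W e).hom.toAlgebra
      ∃ φ : MvPolynomial (Fin n) Γ(Y, V) →ₐ[Γ(Y, V)] Γ(U, W),
        (∀ q : PrimeSpectrum Γ(U, W), FibreDim.IsQFAt φ q.asIdeal) ∧
        letI := φ.toRingHom.toAlgebra
        Module.Flat (MvPolynomial (Fin n) Γ(Y, V)) (Localization.AtPrime (hW.primeIdealOf ⟨u, hu⟩).asIdeal) := by
  obtain ⟨V, hV, W, hW, e, hu, φ, hfac, hqf⟩ := GeomUnib.exists_chart_toAffineSpace (U.ι ≫ f) g hg u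
  refine ⟨V, hV, W, hW, e, hu, φ, hqf, ?_⟩
  letI := ((U.ι ≫ f).appLE V W e).hom.toAlgebra
  letI := φ.toRingHom.toAlgebra
  let P := hW.primeIdealOf ⟨u, hu⟩
  have hP : hW.fromSpec P = u := hW.fromSpec_primeIdealOf ⟨u, hu⟩
  exact flat_localization_of_fac' φ.toRingHom (GeomUnib.jA n hV) hW.fromSpec g hfac P u hP hflat

/-- A flat quasi-finite map to affine space gives a Cohen–Macaulay point. -/
theorem isCMAt_of_toAffineSpace (f : X ⟶ Y) [LocallyOfFiniteType f] {n : ℕ} (U : X.Opens)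
    (g : (U : Scheme.{u}) ⟶ 𝔸(ULift.{u} (Fin n); Y)) (hg : g ≫ (𝔸(ULift.{u} (Fin n); Y) ↘ Y) = U.ι ≫ f)
    [LocallyQuasiFinite g] (u : U) (hflat : (g.stalkMap u).hom.Flat) : MoreMor.IsCMAt f (U.ι u) := by
  obtain ⟨V, hV, W, hW, e, hu, h⟩ := exists_chart_flat f U g hg u hflat
  letI := ((U.ι ≫ f).appLE V W e).hom.toAlgebra
  obtain ⟨φ, hqf, hflat'⟩ := h
  letI := φ.toRingHom.toAlgebra
  haveI : IsScalarTower Γ(Y, V) (MvPolynomial (Fin n) Γ(Y, V)) Γ(U, W) :=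
    IsScalarTower.of_algebraMap_eq fun a => (φ.commutes a).symm
  haveI : Algebra.FiniteType Γ(Y, V) Γ(U, W) :=
    RingHom.finiteType_algebraMap.1 ((U.ι ≫ f).finiteType_appLE hV hW e)
  let P := hW.primeIdealOf ⟨u, hu⟩
  have hP : hW.fromSpec P = u := hW.fromSpec_primeIdealOf ⟨u, hu⟩
  haveI : Algebra.QuasiFiniteAt (MvPolynomial (Fin n) Γ(Y, V)) P.asIdeal := hqf P
  rw [← isCMAt_openImmersion_comp U.ι f u, ← hP]
  exact (isCMAt_chart_iff (U.ι ≫ f) hV hW e P).mpr (isCMAt_of_flat_qf P hflat')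

/-- A flat quasi-finite map to affine space computes the fibre dimension. -/
theorem fibreDimAt_of_toAffineSpace (f : X ⟶ Y) [LocallyOfFiniteType f] {n : ℕ} (U : X.Opens)
    (g : (U : Scheme.{u}) ⟶ 𝔸(ULift.{u} (Fin n); Y)) (hg : g ≫ (𝔸(ULift.{u} (Fin n); Y) ↘ Y) = U.ι ≫ f)
    [LocallyQuasiFinite g] (u : U) (hflat : (g.stalkMap u).hom.Flat) :
    FlatMor.fibreDimAt f (U.ι u) = n := by
  obtain ⟨V, hV, W, hW, e, hu, h⟩ := exists_chart_flat f U g hg u hflat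
  letI := ((U.ι ≫ f).appLE V W e).hom.toAlgebra
  obtain ⟨φ, hqf, hflat'⟩ := h
  let A := Γ(Y, V)
  let R := MvPolynomial (Fin n) A
  letI : Algebra R Γ(U, W) := φ.toRingHom.toAlgebra
  haveI : IsScalarTower A R Γ(U, W) := IsScalarTower.of_algebraMap_eq fun a => (φ.commutes a).symm
  let P := hW.primeIdealOf ⟨u, hu⟩
  let L := Localization.AtPrime P.asIdeal
  haveI : Module.Flat R L := hflat'
  let p := P.asIdeal.under A
  let q₀ := RingHom.ker (MvPolynomial.map (σ := Fin n) (Ideal.Quotient.mk p))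
  haveI : q₀.IsPrime := RingHom.ker_isPrime _
  have hq₀ : q₀ = p.map MvPolynomial.C := by rw [show q₀ = _ from MvPolynomial.ker_map _, Ideal.mk_ker]
  let Q := IsLocalRing.maximalIdeal L
  haveI : Q.LiesOver (P.asIdeal.under R) := ⟨by
    rw [← Ideal.under_under (B := Γ(U, W)) Q]
    exact congrArg (Ideal.under R) Localization.AtPrime.under_maximalIdeal.symm⟩
  have hle : q₀ ≤ P.asIdeal.under R := by
    rw [hq₀]
    exact Ideal.map_le_iff_le_comap.mpr fun a ha => by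
      show algebraMap R Γ(U, W) (MvPolynomial.C a) ∈ P.asIdeal
      rw [← MvPolynomial.algebraMap_eq, ← IsScalarTower.algebraMap_apply]
      exact ha
  obtain ⟨Q₀, hQ₀le, hQ₀, hover⟩ := Ideal.exists_ideal_le_liesOver_of_le (R := R) Q hle
  haveI := hQ₀
  let P₀ : PrimeSpectrum Γ(U, W) := ⟨Q₀.under Γ(U, W), inferInstance⟩
  have hP₀le : P₀.asIdeal ≤ P.asIdeal :=
    (Ideal.comap_mono hQ₀le).trans Localization.AtPrime.under_maximalIdeal.le
  have hP₀R : P₀.asIdeal.under R = q₀ := (Ideal.under_under Q₀).trans hover.over.symm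
  have hP₀A : P₀.asIdeal.under A = p := by
    refine le_antisymm (Ideal.comap_mono hP₀le) fun a ha => ?_
    show algebraMap A Γ(U, W) a ∈ P₀.asIdeal
    rw [IsScalarTower.algebraMap_apply A R Γ(U, W)]
    show algebraMap A R a ∈ P₀.asIdeal.under R
    rw [hP₀R, hq₀]
    exact Ideal.mem_map_of_mem _ ha
  let w := hW.fromSpec P₀
  have hwW : w ∈ W := hW.range_fromSpec.le ⟨P₀, rfl⟩
  have hw : hW.primeIdealOf ⟨w, hwW⟩ = P₀ := hW.fromSpec.isOpenEmbedding.injective (hW.fromSpec_primeIdealOf _)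
  have hinj : Function.Injective (FibreDim.quotMap φ P₀.asIdeal) := by
    rw [FibreDim.injective_quotMap_iff, hP₀A]
    exact hP₀R
  have hdim : FibreDim.fdim (U.ι ≫ f) w = n := by
    have := (FibreDim.fdim_chart (U.ι ≫ f) hV hW e w hwW φ (hqf _)).2
    rw [hw] at this
    exact this.mpr hinj
  obtain ⟨N, hN, ⟨v, hv, hvx, hvN⟩, hall⟩ := FibreDim.exists_fibreDimAt_eq f (U.ι u)
  have hwu : w ⤳ u := by
    have := ((PrimeSpectrum.le_iff_specializes P₀ P).mp hP₀le).map hW.fromSpec.continuous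
    rwa [hW.fromSpec_primeIdealOf] at this
  have hfw : f (U.ι w) = f (U.ι u) := (FibreDim.primeIdeal_comap (U.ι ≫ f) hV hW e u hu w hwW).mpr (by
    rw [hw]; exact hP₀A)
  have h1 := hall (U.ι w) hfw (hwu.map U.ι.continuous)
  rw [← GeomUnib.fdim_opens, hdim] at h1
  have hvU : v ∈ U := hvx.mem_open U.2 u.2
  obtain ⟨v', rfl⟩ : ∃ v' : U, U.ι v' = v := ⟨⟨v, hvU⟩, rfl⟩
  have hv'u : v' ⤳ u := U.ι.isOpenEmbedding.toIsInducing.specializes_iff.mp hvx
  have hv'W : v' ∈ W := hv'u.mem_open W.2 hu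
  have h2 := (FibreDim.fdim_chart (U.ι ≫ f) hV hW e v' hv'W φ (hqf _)).1
  rw [GeomUnib.fdim_opens, hvN] at h2
  exact hN.trans (le_antisymm h2 h1)

/-- Openness of the Cohen–Macaulay locus. -/
theorem isOpen_cmLocus (f : X ⟶ Y) [LocallyOfFinitePresentation f] : IsOpen {x : X | MoreMor.IsCMAt f x} := by
  refine isOpen_iff_forall_mem_open.mpr fun x hx => ?_
  obtain ⟨n, U, hxU, g, hg, hgf, hgq⟩ := exists_toAffineSpace_of_isCMAt f x hx
  exact ⟨U, fun y hy => isCMAt_of_toAffineSpace f U g hg ⟨y, hy⟩ (Flat.stalkMap g _), U.2, hxU⟩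

end Groth.FlatDescent.CM
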