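import Groth.Agent.FlatDescent.CM.Local
import Groth.Agent.FlatDescent.Scheme
import Groth.Prelude.Def_MoreMor

/-!
# Cohen–Macaulay morphisms on local rings
-/

universe u

open CategoryTheory CategoryTheory.Limits AlgebraicGeometry IsLocalRing LocCoh

namespace Groth.FlatDescent.CM

variable {X Y Z : Scheme.{u}}

/-- The local ring of the fibre through a point. -/
theorem exists_fibreStalkEquiv (f : X ⟶ Y) (x : X) :
    Nonempty ((X.presheaf.stalk x ⧸ maxExt f x) ≃+* (f.fiber (f x)).presheaf.stalk (f.asFiber x)) := by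
  have key : ∀ (w : X), w = f.fiberι (f x) (f.asFiber x) →
      Nonempty ((X.presheaf.stalk w ⧸ maxExt f w) ≃+* (f.fiber (f x)).presheaf.stalk (f.asFiber x)) := by
    rintro w rfl
    exact ⟨(Ideal.quotEquivOfEq (ker_stalkMap_fiberι f (f x) (f.asFiber x)).symm).trans
      (RingHom.quotientKerEquivOfSurjective (SurjectiveOnStalks.stalkMap_surjective _ _))⟩
  exact key x (f.fiberι_asFiber x).symm

theorem isCMAt_iff (f : X ⟶ Y) (x : X) :
    MoreMor.IsCMAt f x ↔ (f.stalkMap x).hom.Flat ∧ IsCohenMacaulayLocalRing (X.presheaf.stalk x ⧸ maxExt f x) := by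
  obtain ⟨e⟩ := exists_fibreStalkEquiv f x
  exact and_congr_right' ⟨fun h => cm_ringEquiv e.symm h, fun h => cm_ringEquiv e h⟩

theorem isNoetherianRing_fibre (f : X ⟶ Y) (x : X) (h : IsLocallyNoetherian (f.fiber (f x))) :
    IsNoetherianRing (X.presheaf.stalk x ⧸ maxExt f x) := by
  haveI := h
  obtain ⟨e⟩ := exists_fibreStalkEquiv f x
  exact isNoetherianRing_of_ringEquiv _ e.symm

/-- Composites on local rings. -/
theorem cm_comp_iff {A B C : Type u} [CommRing A] [CommRing B] [CommRing C] [IsLocalRing A] [IsLocalRing B]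
    [IsLocalRing C] (φ : A →+* B) [IsLocalHom φ] (ψ : B →+* C) [IsLocalHom ψ] (hψ : ψ.Flat)
    (hB : IsNoetherianRing (B ⧸ (maximalIdeal A).map φ))
    (hC : IsNoetherianRing (C ⧸ ((maximalIdeal A).map φ).map ψ)) :
    IsCohenMacaulayLocalRing (C ⧸ ((maximalIdeal A).map φ).map ψ) ↔
      IsCohenMacaulayLocalRing (B ⧸ (maximalIdeal A).map φ) ∧
        IsCohenMacaulayLocalRing (C ⧸ (maximalIdeal B).map ψ) := by
  let I := (maximalIdeal A).map φ
  let J := I.map ψ
  have hI : I ≤ maximalIdeal B := ((local_hom_TFAE φ).out 0 2 rfl rfl).mp ‹_›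
  have hJ : J ≤ maximalIdeal C := (Ideal.map_mono hI).trans (((local_hom_TFAE ψ).out 0 2 rfl rfl).mp ‹_›)
  haveI : Nontrivial (B ⧸ I) :=
    Ideal.Quotient.nontrivial_iff.mpr (ne_top_of_le_ne_top (maximalIdeal.isMaximal B).ne_top hI)
  haveI : Nontrivial (C ⧸ J) :=
    Ideal.Quotient.nontrivial_iff.mpr (ne_top_of_le_ne_top (maximalIdeal.isMaximal C).ne_top hJ)
  haveI : IsLocalRing (B ⧸ I) := IsLocalRing.of_surjective' (Ideal.Quotient.mk I) Ideal.Quotient.mk_surjective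
  haveI : IsLocalRing (C ⧸ J) := IsLocalRing.of_surjective' (Ideal.Quotient.mk J) Ideal.Quotient.mk_surjective
  let θ : B ⧸ I →+* C ⧸ J := Ideal.quotientMap J ψ Ideal.le_comap_map
  have hθ : θ.Flat := flat_of_surjective_of_ker ψ hψ (Ideal.Quotient.mk I) Ideal.Quotient.mk_surjective
    (Ideal.Quotient.mk J) Ideal.Quotient.mk_surjective (by rw [Ideal.mk_ker, Ideal.mk_ker]) θ (RingHom.ext fun _ => rfl)
  letI := θ.toAlgebra
  haveI : Module.Flat (B ⧸ I) (C ⧸ J) := hθ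
  haveI : IsLocalHom (algebraMap (B ⧸ I) (C ⧸ J)) := ⟨fun a ha => by
    obtain ⟨b, rfl⟩ := Ideal.Quotient.mk_surjective a
    haveI : IsLocalHom (Ideal.Quotient.mk J) := IsLocalHom.of_surjective _ Ideal.Quotient.mk_surjective
    exact (isUnit_of_map_unit ψ b (isUnit_of_map_unit (Ideal.Quotient.mk J) (ψ b) ha)).map _⟩
  haveI := hB
  haveI := hC
  rw [cm_iff_of_flat (B ⧸ I) (C ⧸ J)]
  have hm : (maximalIdeal (B ⧸ I)).map (algebraMap (B ⧸ I) (C ⧸ J)) = ((maximalIdeal B).map ψ).map (Ideal.Quotient.mk J) := by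
    rw [← IsLocalRing.map_maximalIdeal_of_surjective (Ideal.Quotient.mk I) Ideal.Quotient.mk_surjective, Ideal.map_map,
      Ideal.map_map]
    rfl
  have e : ((C ⧸ J) ⧸ (maximalIdeal (B ⧸ I)).map (algebraMap (B ⧸ I) (C ⧸ J))) ≃+* C ⧸ (maximalIdeal B).map ψ :=
    (Ideal.quotEquivOfEq hm).trans (DoubleQuot.quotQuotEquivQuotOfLE (Ideal.map_mono hI))
  exact and_congr_right' ⟨fun h => cm_ringEquiv e h, fun h => cm_ringEquiv e.symm h⟩

/-- Cohen–Macaulay fibres of a composite. -/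
theorem cm_fibre_comp_iff (f : X ⟶ Y) (g : Y ⟶ Z) (x : X) (hf : (f.stalkMap x).hom.Flat)
    (hg : IsNoetherianRing (Y.presheaf.stalk (f x) ⧸ maxExt g (f x)))
    (hfg : IsNoetherianRing (X.presheaf.stalk x ⧸ maxExt (f ≫ g) x)) :
    IsCohenMacaulayLocalRing (X.presheaf.stalk x ⧸ maxExt (f ≫ g) x) ↔
      IsCohenMacaulayLocalRing (Y.presheaf.stalk (f x) ⧸ maxExt g (f x)) ∧
        IsCohenMacaulayLocalRing (X.presheaf.stalk x ⧸ maxExt f x) := by
  rw [maxExt_comp] at hfg ⊢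
  exact cm_comp_iff (g.stalkMap (f x)).hom (f.stalkMap x).hom hf hg hfg

end Groth.FlatDescent.CM
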