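import Groth.Agent.FlatDescent.CM.Scheme
import Groth.Agent.Catenary.CM
import Groth.Agent.QCohLib.TildeFlat

/-!
# Cohen–Macaulay morphisms of affine schemes
-/

universe u

open CategoryTheory CategoryTheory.Limits AlgebraicGeometry IsLocalRing LocCoh MvPolynomial

namespace Groth.FlatDescent.CM

variable {X Y Z : Scheme.{u}}

/-- A Noetherian local ring of dimension zero is Cohen–Macaulay. -/
theorem cm_of_dim_zero (R : Type u) [CommRing R] [IsLocalRing R] [IsNoetherianRing R] [Ring.KrullDimLE 0 R] :
    IsCohenMacaulayLocalRing R := by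
  refine Groth.Agent.DepthLib.isCohenMacaulayLocalRing_iff.mpr ((Ring.krullDimLE_iff.mp ‹_›).trans ?_)
  exact WithBot.coe_le_coe.mpr bot_le

/-- Cohen–Macaulay at a point along an open immersion of the source. -/
theorem isCMAt_openImmersion_comp (j : X ⟶ Y) [IsOpenImmersion j] (f : Y ⟶ Z) (x : X) :
    MoreMor.IsCMAt (j ≫ f) x ↔ MoreMor.IsCMAt f (j x) := by
  rw [isCMAt_iff, isCMAt_iff]
  let e : Y.presheaf.stalk (j x) ≃+* X.presheaf.stalk x := (asIso (j.stalkMap x)).commRingCatIsoToRingEquiv
  have he : maxExt (j ≫ f) x = (maxExt f (j x)).map (e : _ →+* X.presheaf.stalk x) := maxExt_comp j f x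
  let q := Ideal.quotientEquiv _ _ e he
  refine and_congr ?_ ⟨fun h => cm_ringEquiv q.symm h, fun h => cm_ringEquiv q h⟩
  rw [Scheme.Hom.stalkMap_comp]
  show ((j.stalkMap x).hom.comp (f.stalkMap (j x)).hom).Flat ↔ _
  constructor
  · intro h
    have : (f.stalkMap (j x)).hom = (e.symm : X.presheaf.stalk x →+* _).comp ((j.stalkMap x).hom.comp (f.stalkMap (j x)).hom) :=
      RingHom.ext fun a => (e.symm_apply_apply _).symm
    rw [this]
    exact RingHom.Flat.comp h (RingHom.Flat.of_bijective e.symm.bijective)
  · exact fun h => RingHom.Flat.comp h (RingHom.Flat.of_bijective e.bijective)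

/-- Cohen–Macaulay at a point along an open immersion of the target. -/
theorem isCMAt_comp_openImmersion (f : X ⟶ Y) (j : Y ⟶ Z) [IsOpenImmersion j] (x : X) :
    MoreMor.IsCMAt (f ≫ j) x ↔ MoreMor.IsCMAt f x := by
  rw [isCMAt_iff, isCMAt_iff]
  let e : Z.presheaf.stalk (j (f x)) ≃+* Y.presheaf.stalk (f x) := (asIso (j.stalkMap (f x))).commRingCatIsoToRingEquiv
  have hm : maxExt (f ≫ j) x = maxExt f x := by
    rw [maxExt_comp, maxExt, maxExt]
    congr 1
    exact IsLocalRing.map_maximalIdeal_of_surjective _ e.surjective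
  rw [hm]
  refine and_congr_left' ?_
  rw [Scheme.Hom.stalkMap_comp]
  show ((f.stalkMap x).hom.comp (j.stalkMap (f x)).hom).Flat ↔ _
  constructor
  · intro h
    have : (f.stalkMap x).hom = ((f.stalkMap x).hom.comp (j.stalkMap (f x)).hom).comp (e.symm : _ →+* Z.presheaf.stalk (j (f x))) :=
      RingHom.ext fun a => congrArg (f.stalkMap x).hom (e.apply_symm_apply a).symm
    rw [this]
    exact RingHom.Flat.comp (RingHom.Flat.of_bijective e.symm.bijective) h
  · exact fun h => RingHom.Flat.comp (RingHom.Flat.of_bijective e.bijective) h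

section Spec

variable {A B : Type u} [CommRing A] [CommRing B] [Algebra A B] (Q : PrimeSpectrum B)

/-- Flatness of the stalk maps of affine schemes. -/
theorem flat_stalkMap_Spec_iff :
    ((Spec.map (CommRingCat.ofHom (algebraMap A B))).stalkMap Q).hom.Flat ↔
      Module.Flat A (Localization.AtPrime Q.asIdeal) := by
  let p := Q.asIdeal.under A
  letI : Algebra (Localization.AtPrime p) (Localization.AtPrime Q.asIdeal) :=
    (Localization.localRingHom p Q.asIdeal (algebraMap A B) rfl).toAlgebra
  haveI : IsScalarTower A (Localization.AtPrime p) (Localization.AtPrime Q.asIdeal) :=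
    IsScalarTower.of_algebraMap_eq fun a => by
      rw [IsScalarTower.algebraMap_apply A B (Localization.AtPrime Q.asIdeal) a]
      exact (Localization.localRingHom_to_map p Q.asIdeal (algebraMap A B) rfl a).symm
  refine Iff.trans (RingHom.Flat.respectsIso.arrow_mk_iso_iff
    (Scheme.arrowStalkMapSpecIso (CommRingCat.ofHom (algebraMap A B)) Q)) ?_
  show Module.Flat (Localization.AtPrime p) (Localization.AtPrime Q.asIdeal) ↔ _
  exact Module.flat_iff_of_isLocalization (Localization.AtPrime p) p.primeCompl (Localization.AtPrime Q.asIdeal)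

/-- The extended maximal ideal on stalks of affine schemes. -/
theorem maxExt_Spec :
    maxExt (Spec.map (CommRingCat.ofHom (algebraMap A B))) Q =
      ((Q.asIdeal.under A).map (algebraMap A B)).map (StructureSheaf.toStalk B Q).hom := by
  let φ := Spec.map (CommRingCat.ofHom (algebraMap A B))
  let q : PrimeSpectrum A := PrimeSpectrum.comap (algebraMap A B) Q
  letI : Algebra A ((Spec (CommRingCat.of A)).presheaf.stalk (φ Q)) := (StructureSheaf.toStalk A q).hom.toAlgebra
  haveI : IsLocalization q.asIdeal.primeCompl ((Spec (CommRingCat.of A)).presheaf.stalk (φ Q)) :=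
    StructureSheaf.IsLocalization.to_stalk A q
  rw [maxExt, ← IsLocalization.AtPrime.map_eq_maximalIdeal q.asIdeal ((Spec (CommRingCat.of A)).presheaf.stalk (φ Q)),
    Ideal.map_map, Ideal.map_map]
  congr 1
  ext a
  exact stalkMap_toStalk_apply (CommRingCat.ofHom (algebraMap A B)) Q a

/-- Extensions of ideals along an algebra isomorphism. -/
theorem map_algEquiv {A B L S : Type u} [CommRing A] [CommRing B] [CommRing L] [CommRing S] [Algebra A B] [Algebra B L]
    [Algebra B S] [Algebra A L] [IsScalarTower A B L] (e : L ≃ₐ[B] S) (I : Ideal A) :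
    (I.map (algebraMap A B)).map (algebraMap B S) = (I.map (algebraMap A L)).map (e.toRingEquiv : L →+* S) := by
  rw [IsScalarTower.algebraMap_eq A B L, ← Ideal.map_map, Ideal.map_map (algebraMap B L)]
  congr 1
  exact RingHom.ext fun b => (e.commutes b).symm

/-- Fibre rings of finite type algebras are Noetherian. -/
theorem isNoetherianRing_fibre_Spec [Algebra.FiniteType A B] :
    IsNoetherianRing (Localization.AtPrime Q.asIdeal ⧸
      (Q.asIdeal.under A).map (algebraMap A (Localization.AtPrime Q.asIdeal))) := by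
  let g := Spec.map (CommRingCat.ofHom (algebraMap A B))
  haveI : LocallyOfFiniteType g :=
    (HasRingHomProperty.Spec_iff (P := @LocallyOfFiniteType)).mpr (RingHom.finiteType_algebraMap.mpr ‹_›)
  haveI : LocallyOfFiniteType (g.fiberToSpecResidueField (g Q)) := MorphismProperty.pullback_snd _ _ ‹_›
  haveI : IsLocallyNoetherian (g.fiber (g Q)) :=
    LocallyOfFiniteType.isLocallyNoetherian (g.fiberToSpecResidueField (g Q))
  haveI := isNoetherianRing_fibre g Q inferInstance
  letI : Algebra B ((Spec (CommRingCat.of B)).presheaf.stalk Q) := (StructureSheaf.toStalk B Q).hom.toAlgebra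
  haveI : IsLocalization Q.asIdeal.primeCompl ((Spec (CommRingCat.of B)).presheaf.stalk Q) :=
    StructureSheaf.IsLocalization.to_stalk B Q
  let e : Localization.AtPrime Q.asIdeal ≃ₐ[B] (Spec (CommRingCat.of B)).presheaf.stalk Q :=
    IsLocalization.algEquiv Q.asIdeal.primeCompl _ _
  exact isNoetherianRing_of_ringEquiv _
    (Ideal.quotientEquiv _ (maxExt g Q) e.toRingEquiv ((maxExt_Spec Q).trans (map_algEquiv e _))).symm

/-- Cohen–Macaulay at a point of a morphism of affine schemes. -/
theorem isCMAt_Spec_iff (L : Type u) [CommRing L] [Algebra B L] [IsLocalization.AtPrime L Q.asIdeal]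
    [Algebra A L] [IsScalarTower A B L] :
    MoreMor.IsCMAt (Spec.map (CommRingCat.ofHom (algebraMap A B))) Q ↔
      Module.Flat A L ∧ IsCohenMacaulayLocalRing (L ⧸ (Q.asIdeal.under A).map (algebraMap A L)) := by
  rw [isCMAt_iff, flat_stalkMap_Spec_iff]
  letI : Algebra B ((Spec (CommRingCat.of B)).presheaf.stalk Q) := (StructureSheaf.toStalk B Q).hom.toAlgebra
  haveI : IsLocalization Q.asIdeal.primeCompl ((Spec (CommRingCat.of B)).presheaf.stalk Q) :=
    StructureSheaf.IsLocalization.to_stalk B Q
  let e : L ≃ₐ[B] (Spec (CommRingCat.of B)).presheaf.stalk Q := IsLocalization.algEquiv Q.asIdeal.primeCompl _ _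
  let q := Ideal.quotientEquiv _ _ e.toRingEquiv ((maxExt_Spec Q).trans (map_algEquiv (A := A) e (Q.asIdeal.under A)))
  refine and_congr ?_ ⟨fun h => cm_ringEquiv q.symm h, fun h => cm_ringEquiv q h⟩
  exact Module.Flat.equiv_iff
    ((IsLocalization.algEquiv Q.asIdeal.primeCompl (Localization.AtPrime Q.asIdeal) L).toLinearEquiv.restrictScalars A)

end Spec

/-- The fibres of affine space are Cohen–Macaulay. -/
theorem cm_fibre_mvPolynomial (A : Type u) [CommRing A] (n : ℕ) (Q : Ideal (MvPolynomial (Fin n) A)) [Q.IsPrime] :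
    IsCohenMacaulayLocalRing
      (Localization.AtPrime Q ⧸ (Q.under A).map (algebraMap A (Localization.AtPrime Q))) := by
  let p := Q.under A
  let D := A ⧸ p
  let K := FractionRing D
  let R₁ := MvPolynomial (Fin n) D
  let π : MvPolynomial (Fin n) A →+* R₁ := MvPolynomial.map (Ideal.Quotient.mk p)
  have hπ : Function.Surjective π := MvPolynomial.map_surjective _ Ideal.Quotient.mk_surjective
  have hker : RingHom.ker π = p.map (algebraMap A (MvPolynomial (Fin n) A)) := by
    rw [MvPolynomial.ker_map, Ideal.mk_ker]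
    rfl
  have hkQ : RingHom.ker π ≤ Q := hker.le.trans (Ideal.map_le_iff_le_comap.mpr le_rfl)
  let Q₁ : Ideal R₁ := Q.map π
  haveI : Q₁.IsPrime := Ideal.map_isPrime_of_surjective hπ hkQ
  have hQ₁ : Q₁.comap π = Q := (Ideal.comap_map_of_surjective π hπ Q).trans
    (sup_eq_left.mpr ((RingHom.ker_eq_comap_bot π).symm.le.trans hkQ))
  -- the fibre ring is a localisation of `R₁`
  let L := Localization.AtPrime Q ⧸ (Q.under A).map (algebraMap A (Localization.AtPrime Q))
  let g : Localization.AtPrime Q →+* L := Ideal.Quotient.mk _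
  have hgker : RingHom.ker g = (RingHom.ker π).map (algebraMap (MvPolynomial (Fin n) A) (Localization.AtPrime Q)) := by
    rw [Ideal.mk_ker, hker, Ideal.map_map, ← IsScalarTower.algebraMap_eq]
  let ρ : R₁ →+* L := RingHom.liftOfSurjective π hπ
    ⟨g.comp (algebraMap (MvPolynomial (Fin n) A) (Localization.AtPrime Q)), fun a ha => by
      have h1 : algebraMap _ (Localization.AtPrime Q) a ∈ RingHom.ker g := hgker ▸ Ideal.mem_map_of_mem _ ha
      exact h1⟩
  letI : CommRing L := Ideal.Quotient.commRing _
  letI : Algebra R₁ L := RingHom.toAlgebra (R := R₁) (S := L) ρ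
  have hρ : ∀ a, ρ (π a) = g (algebraMap (MvPolynomial (Fin n) A) (Localization.AtPrime Q) a) := fun a =>
    RingHom.liftOfRightInverse_comp_apply π _ _ _ a
  have hloc : IsLocalization (Submonoid.map π Q.primeCompl) L :=
    IsLocalization.of_surjective (R := MvPolynomial (Fin n) A) (R' := R₁) (S' := L) Q.primeCompl
      (Localization.AtPrime Q) π hπ g Ideal.Quotient.mk_surjective
      (RingHom.ext fun a => (hρ a).symm) hgker.le
  have hmap : Submonoid.map π Q.primeCompl = Q₁.primeCompl := by
    ext b
    constructor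
    · rintro ⟨a, ha, rfl⟩
      exact fun hb => ha (hQ₁.le hb)
    · intro hb
      obtain ⟨a, rfl⟩ := hπ b
      exact ⟨a, fun ha => hb (Ideal.mem_map_of_mem π ha), rfl⟩
  haveI : IsLocalization.AtPrime L Q₁ := by
    show IsLocalization Q₁.primeCompl L
    rw [← hmap]
    exact hloc
  -- and `R₁` localises to a polynomial ring over a field
  letI : Algebra R₁ (MvPolynomial (Fin n) K) := (MvPolynomial.map (σ := Fin n) (algebraMap D K)).toAlgebra
  let M := (nonZeroDivisors D).map (MvPolynomial.C (σ := Fin n))
  haveI : IsLocalization M (MvPolynomial (Fin n) K) := MvPolynomial.isLocalization (nonZeroDivisors D) K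
  have hdisj : Disjoint (M : Set R₁) (Q₁ : Set R₁) := Set.disjoint_left.mpr fun b hbM hbQ => by
    obtain ⟨d, hd, rfl⟩ := hbM
    obtain ⟨a, rfl⟩ := Ideal.Quotient.mk_surjective d
    refine nonZeroDivisors.ne_zero hd (Ideal.Quotient.eq_zero_iff_mem.mpr ?_)
    have h2 : (C a : MvPolynomial (Fin n) A) ∈ Q := by
      rw [← hQ₁, Ideal.mem_comap]
      show map (Ideal.Quotient.mk p) (C a) ∈ Q₁
      rw [map_C]
      exact hbQ
    exact h2
  let Q₂ := Q₁.map (algebraMap R₁ (MvPolynomial (Fin n) K))
  haveI : Q₂.IsPrime := IsLocalization.isPrime_of_isPrime_disjoint M _ Q₁ inferInstance hdisj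
  have hQ₂ : Q₂.comap (algebraMap R₁ (MvPolynomial (Fin n) K)) = Q₁ :=
    IsLocalization.under_map_of_isPrime_disjoint M _ inferInstance hdisj
  haveI := Groth.Agent.Catenary.isCohenMacaulayRing_of_isRegularRing K
  haveI := Groth.Agent.Catenary.isCohenMacaulayRing_mvPolynomial K n
  haveI : IsLocalization.AtPrime (Localization.AtPrime Q₂) (Q₂.comap (algebraMap R₁ (MvPolynomial (Fin n) K))) :=
    IsLocalization.isLocalization_isLocalization_atPrime_isLocalization M (Localization.AtPrime Q₂) Q₂
  haveI : IsLocalization.AtPrime (Localization.AtPrime Q₂) Q₁ := by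
    have h : (Q₂.comap (algebraMap R₁ (MvPolynomial (Fin n) K))).primeCompl = Q₁.primeCompl := by
      ext b
      exact not_congr (SetLike.ext_iff.mp hQ₂ b)
    show IsLocalization Q₁.primeCompl _
    rw [← h]
    assumption
  exact cm_ringEquiv (IsLocalization.algEquiv Q₁.primeCompl (Localization.AtPrime Q₂) L).toRingEquiv
    (IsCohenMacaulayRing.isCohenMacaulayLocalRing_localization Q₂)

/-- The fibre local ring at a quasi-finite point is zero-dimensional. -/
theorem dim_zero_of_quasiFiniteAt {R B : Type u} [CommRing R] [CommRing B] [Algebra R B] (Q : Ideal B) [Q.IsPrime]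
    [Algebra.QuasiFiniteAt R Q] :
    Ring.KrullDimLE 0 (Localization.AtPrime Q ⧸ (Q.under R).map (algebraMap R (Localization.AtPrime Q))) := by
  let I := (Q.under R).map (algebraMap R (Localization.AtPrime Q))
  have key : ∀ c : PrimeSpectrum (Localization.AtPrime Q ⧸ I),
      c.asIdeal.comap (Ideal.Quotient.mk I) = IsLocalRing.maximalIdeal (Localization.AtPrime Q) := fun c => by
    let P' := c.asIdeal.comap (Ideal.Quotient.mk I)
    haveI : P'.IsPrime := Ideal.IsPrime.comap _
    have hI : I ≤ P' := fun r hr => by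
      rw [Ideal.mem_comap, Ideal.Quotient.eq_zero_iff_mem.mpr hr]
      exact zero_mem _
    have h1 : P'.under B ≤ Q :=
      (Ideal.comap_mono (IsLocalRing.le_maximalIdeal (Ideal.IsPrime.ne_top' (I := P')))).trans
        Localization.AtPrime.under_maximalIdeal.le
    have h2 : (P'.under B).under R = Q.under R := by
      refine le_antisymm (Ideal.comap_mono h1) fun r hr => ?_
      show algebraMap B (Localization.AtPrime Q) (algebraMap R B r) ∈ P'
      rw [← IsScalarTower.algebraMap_apply]
      exact hI (Ideal.mem_map_of_mem _ hr)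
    have h3 := Algebra.QuasiFiniteAt.eq_of_le_of_under_eq h1 h2
    show P' = _
    rw [← IsLocalization.map_under Q.primeCompl (Localization.AtPrime Q) P', h3]
    exact Localization.AtPrime.map_eq_maximalIdeal
  haveI : Subsingleton (PrimeSpectrum (Localization.AtPrime Q ⧸ I)) := ⟨fun a b =>
    PrimeSpectrum.ext (Ideal.comap_injective_of_surjective _ Ideal.Quotient.mk_surjective ((key a).trans (key b).symm))⟩
  exact inferInstanceAs (Order.KrullDimLE 0 (PrimeSpectrum (Localization.AtPrime Q ⧸ I)))

/-- **Cohen–Macaulay from a flat quasi-finite map to affine space.** -/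
theorem isCMAt_of_flat_qf {A C : Type u} [CommRing A] [CommRing C] [Algebra A C] [Algebra.FiniteType A C] {n : ℕ}
    [Algebra (MvPolynomial (Fin n) A) C] [IsScalarTower A (MvPolynomial (Fin n) A) C] (Q : PrimeSpectrum C)
    (hflat : Module.Flat (MvPolynomial (Fin n) A) (Localization.AtPrime Q.asIdeal))
    [Algebra.QuasiFiniteAt (MvPolynomial (Fin n) A) Q.asIdeal] :
    MoreMor.IsCMAt (Spec.map (CommRingCat.ofHom (algebraMap A C))) Q := by
  let P := MvPolynomial (Fin n) A
  let L := Localization.AtPrime Q.asIdeal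
  haveI : Module.Flat P L := hflat
  refine (isCMAt_Spec_iff Q L).mpr ⟨Module.Flat.trans A P L, ?_⟩
  let q := Q.asIdeal.under P
  let Lq := Localization.AtPrime q
  let ψ : Lq →+* L := Localization.localRingHom q Q.asIdeal (algebraMap P C) rfl
  letI := ψ.toAlgebra
  haveI : IsScalarTower P Lq L := IsScalarTower.of_algebraMap_eq fun a => by
    rw [IsScalarTower.algebraMap_apply P C L a]
    exact (Localization.localRingHom_to_map q Q.asIdeal (algebraMap P C) rfl a).symm
  haveI : Module.Flat Lq L := (Module.flat_iff_of_isLocalization Lq q.primeCompl L).mpr hflat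
  let φ : Localization.AtPrime (Q.asIdeal.under A) →+* Lq :=
    Localization.localRingHom (Q.asIdeal.under A) q (algebraMap A P) (by rw [← Ideal.under_under (B := P)])
  haveI : IsLocalHom φ := Localization.isLocalHom_localRingHom _ _ _ _
  haveI : IsLocalHom ψ := Localization.isLocalHom_localRingHom _ _ _ _
  have hm : (maximalIdeal (Localization.AtPrime (Q.asIdeal.under A))).map φ =
      (Q.asIdeal.under A).map (algebraMap A Lq) := by
    rw [← Localization.AtPrime.map_eq_maximalIdeal, Ideal.map_map]
    congr 1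
    refine RingHom.ext fun a => ?_
    rw [RingHom.comp_apply, IsScalarTower.algebraMap_apply A P Lq a]
    exact Localization.localRingHom_to_map _ _ _ _ a
  have hm' : ((maximalIdeal (Localization.AtPrime (Q.asIdeal.under A))).map φ).map ψ =
      (Q.asIdeal.under A).map (algebraMap A L) := by
    rw [hm, Ideal.map_map]
    congr 1
    refine RingHom.ext fun a => ?_
    rw [RingHom.comp_apply, IsScalarTower.algebraMap_apply A P Lq a, IsScalarTower.algebraMap_apply A P L a,
      IsScalarTower.algebraMap_apply P C L]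
    exact Localization.localRingHom_to_map _ _ _ _ _
  have hunder : (q.under A) = Q.asIdeal.under A := Ideal.under_under _
  have h1 : IsNoetherianRing (Lq ⧸ (maximalIdeal (Localization.AtPrime (Q.asIdeal.under A))).map φ) := by
    rw [hm]
    have := isNoetherianRing_fibre_Spec (A := A) (⟨q, inferInstance⟩ : PrimeSpectrum P)
    rwa [show (⟨q, inferInstance⟩ : PrimeSpectrum P).asIdeal.under A = Q.asIdeal.under A from hunder] at this
  have h2 : IsNoetherianRing (L ⧸ ((maximalIdeal (Localization.AtPrime (Q.asIdeal.under A))).map φ).map ψ) := by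
    rw [hm']
    exact isNoetherianRing_fibre_Spec Q
  have hcomp := cm_comp_iff φ ψ (inferInstanceAs (Module.Flat Lq L)) h1 h2
  rw [hm', hm] at hcomp
  have hcm₁ : IsCohenMacaulayLocalRing (Lq ⧸ (Q.asIdeal.under A).map (algebraMap A Lq)) := by
    have := cm_fibre_mvPolynomial A n q
    rwa [hunder] at this
  have hmq : (maximalIdeal Lq).map ψ = q.map (algebraMap P L) := by
    rw [← Localization.AtPrime.map_eq_maximalIdeal, Ideal.map_map]
    exact congrArg (fun h => q.map h) (IsScalarTower.algebraMap_eq P Lq L).symm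
  refine hcomp.mpr ⟨hcm₁, ?_⟩
  rw [hmq]
  haveI hdim : Ring.KrullDimLE 0 (L ⧸ q.map (algebraMap P L)) := dim_zero_of_quasiFiniteAt Q.asIdeal
  haveI : Nontrivial (L ⧸ q.map (algebraMap P L)) :=
    Ideal.Quotient.nontrivial_iff.mpr (ne_top_of_le_ne_top (maximalIdeal.isMaximal L).ne_top
      (hmq ▸ ((local_hom_TFAE ψ).out 0 2 rfl rfl).mp inferInstance))
  haveI : IsLocalRing (L ⧸ q.map (algebraMap P L)) :=
    IsLocalRing.of_surjective' (Ideal.Quotient.mk _) Ideal.Quotient.mk_surjective
  haveI : IsNoetherianRing (L ⧸ q.map (algebraMap P L)) := by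
    have hle : (Q.asIdeal.under A).map (algebraMap A L) ≤ q.map (algebraMap P L) := by
      rw [IsScalarTower.algebraMap_eq A P L, ← Ideal.map_map]
      exact Ideal.map_mono (Ideal.map_le_iff_le_comap.mpr hunder.ge)
    haveI := isNoetherianRing_fibre_Spec (A := A) Q
    exact isNoetherianRing_of_surjective _ _ (Ideal.Quotient.factor hle) (Ideal.Quotient.factor_surjective hle)
  exact cm_of_dim_zero _

end Groth.FlatDescent.CM
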