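import Groth.Agent.FlatDescent.Criterion
import Groth.Agent.FlatDescent.Local

/-!
# Making a point closed in its fibre by transcendental functions
-/

universe u

open MvPolynomial

namespace Groth.FlatDescent.CM

/-- Through every prime there is a map to affine space for which it is maximal in its fibre and lies over the generic
point of the fibre of affine space. -/
theorem exists_transcend {A B : Type u} [CommRing A] [CommRing B] [Algebra A B] [Algebra.FiniteType A B]
    (P : Ideal B) [P.IsPrime] :
    ∃ (m : ℕ) (φ : MvPolynomial (Fin m) A →ₐ[A] B),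
      P.comap φ.toRingHom = (P.under A).map (algebraMap A (MvPolynomial (Fin m) A)) ∧
      ∀ P' : Ideal B, P'.IsPrime → P ≤ P' → P'.comap φ.toRingHom = P.comap φ.toRingHom → P' = P := by
  classical
  let p := P.under A
  let D := B ⧸ P
  haveI : FaithfulSMul (A ⧸ p) D :=
    (faithfulSMul_iff_algebraMap_injective _ _).mpr (Ideal.quotientMap_injective' le_rfl)
  haveI : Algebra.FiniteType A D := Algebra.FiniteType.of_surjective (Ideal.Quotient.mkₐ A P) Ideal.Quotient.mk_surjective
  haveI : Algebra.FiniteType (A ⧸ p) D := Algebra.FiniteType.of_restrictScalars_finiteType A _ _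
  obtain ⟨s, hs⟩ := Algebra.FiniteType.out (R := A ⧸ p) (A := D)
  haveI : Algebra.IsAlgebraic (Algebra.adjoin (A ⧸ p) (s : Set D)) D := by
    refine ⟨fun x => isAlgebraic_algebraMap (⟨x, by rw [hs]; trivial⟩ : Algebra.adjoin (A ⧸ p) (s : Set D))⟩
  obtain ⟨t, hts, ht⟩ := exists_isTranscendenceBasis_subset (R := A ⧸ p) (s : Set D)
  haveI : Fintype t := (s.finite_toSet.subset hts).fintype
  let e := (Fintype.equivFin t).symm
  let x : Fin (Fintype.card t) → D := fun i => (e i : D)
  have hx : IsTranscendenceBasis (A ⧸ p) x := ht.comp_equiv e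
  choose b hb using fun i => Ideal.Quotient.mk_surjective (x i)
  let φ : MvPolynomial (Fin (Fintype.card t)) A →ₐ[A] B := aeval b
  let π : MvPolynomial (Fin (Fintype.card t)) A →+* MvPolynomial (Fin (Fintype.card t)) (A ⧸ p) :=
    MvPolynomial.map (Ideal.Quotient.mk p)
  have hcomm : ∀ f, Ideal.Quotient.mk P (φ f) = aeval x (π f) := by
    intro f
    have : (Ideal.Quotient.mk P).comp φ.toRingHom =
        (aeval x : MvPolynomial _ (A ⧸ p) →ₐ[A ⧸ p] D).toRingHom.comp π := by
      refine MvPolynomial.ringHom_ext (fun a => ?_) fun i => ?_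
      · show Ideal.Quotient.mk P (aeval b (C a)) = aeval x (π (C a))
        rw [MvPolynomial.aeval_C, MvPolynomial.map_C, MvPolynomial.aeval_C]
        rfl
      · show Ideal.Quotient.mk P (aeval b (MvPolynomial.X i)) = aeval x (π (MvPolynomial.X i))
        rw [MvPolynomial.aeval_X, MvPolynomial.map_X, MvPolynomial.aeval_X, hb]
    exact RingHom.congr_fun this f
  have hker : P.comap φ.toRingHom = RingHom.ker π := by
    ext f
    rw [Ideal.mem_comap, RingHom.mem_ker, ← Ideal.Quotient.eq_zero_iff_mem]
    show Ideal.Quotient.mk P (φ f) = 0 ↔ _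
    rw [hcomm]
    exact map_eq_zero_iff _ hx.1
  refine ⟨_, φ, hker.trans (by rw [MvPolynomial.ker_map, Ideal.mk_ker]; rfl), fun P' hP' hle heq => ?_⟩
  refine le_antisymm (fun z hz => ?_) hle
  by_contra hzP
  let z' : D := Ideal.Quotient.mk P z
  have hz0 : z' ≠ 0 := fun h => hzP (Ideal.Quotient.eq_zero_iff_mem.mp h)
  let P'' : Ideal D := P'.map (Ideal.Quotient.mk P)
  have halg := (isAlgebraic_iff_exists_isTranscendenceBasis_subset (R := A ⧸ p) (s := Set.range x)).mpr
    ⟨Set.range x, subset_rfl, hx.to_subtype_range⟩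
  obtain ⟨c, hc0, hc⟩ := Submodule.exists_mem_ne_zero_of_ne_bot (p := P''.comap (algebraMap (Algebra.adjoin (A ⧸ p) (Set.range x)) D))
    (Ideal.comap_ne_bot_of_algebraic_mem hz0 (Ideal.mem_map_of_mem _ hz) (halg.isAlgebraic z'))
  obtain ⟨c, hcmem⟩ := c
  obtain ⟨f, hf⟩ : ∃ f, aeval x f = c := by
    rw [Algebra.adjoin_range_eq_range_aeval] at hcmem
    exact hcmem
  obtain ⟨f, rfl⟩ := MvPolynomial.map_surjective (Ideal.Quotient.mk p) Ideal.Quotient.mk_surjective f
  have h1 : φ f ∈ P' := by
    have h2 : Ideal.Quotient.mk P (φ f) ∈ P'' := by rw [hcomm, hf]; exact hc0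
    rw [Ideal.mem_map_iff_of_surjective _ Ideal.Quotient.mk_surjective] at h2
    obtain ⟨w, hw, hwe⟩ := h2
    rw [Ideal.Quotient.eq] at hwe
    have := P'.sub_mem hw (hle hwe)
    rwa [sub_sub_cancel] at this
  have h3 : f ∈ RingHom.ker π := by rw [← hker, ← heq]; exact h1
  refine hc (Subtype.ext ?_)
  show c = 0
  rw [← hf, show MvPolynomial.map (Ideal.Quotient.mk p) f = π f from rfl, RingHom.mem_ker.mp h3, map_zero]

/-- Flatness over a map to affine space which sends the point to the generic point of the fibre. -/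
theorem flatAt_of_generic {A B : Type u} [CommRing A] [CommRing B] [Algebra A B] [Algebra.FinitePresentation A B]
    {m : ℕ} [Algebra (MvPolynomial (Fin m) A) B] [IsScalarTower A (MvPolynomial (Fin m) A) B] (P : Ideal B) [P.IsPrime]
    (hgen : P.under (MvPolynomial (Fin m) A) = (P.under A).map (algebraMap A (MvPolynomial (Fin m) A)))
    (hflat : FlatCA.FlatAt A P B) : FlatCA.FlatAt (MvPolynomial (Fin m) A) P B := by
  let S := MvPolynomial (Fin m) A
  refine flat_fibre_criterion_ft A S P hflat ?_
  show Module.Flat (S ⧸ (P.under A).map (algebraMap A S))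
    (LocalizedModule P.primeCompl B ⧸ (P.under A).map (algebraMap A S) • (⊤ : Submodule S (LocalizedModule P.primeCompl B)))
  rw [← hgen]
  haveI : IsDomain (S ⧸ P.under S) := Ideal.Quotient.isDomain _
  refine flat_of_bijective_smul fun a ha => ?_
  obtain ⟨s, rfl⟩ := Ideal.Quotient.mk_surjective a
  have hs : s ∉ P.under S := fun h => ha (Ideal.Quotient.eq_zero_iff_mem.mpr h)
  have hu := IsLocalizedModule.map_units (LocalizedModule.mkLinearMap P.primeCompl B) (⟨algebraMap S B s, hs⟩ : P.primeCompl)
  have hb : Function.Bijective fun x : LocalizedModule P.primeCompl B => s • x := by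
    have := (Module.End.isUnit_iff _).mp hu
    refine (congrArg Function.Bijective (funext fun x => ?_)).mp this
    exact algebraMap_smul B s x
  constructor
  · intro x y hxy
    obtain ⟨x, rfl⟩ := Submodule.Quotient.mk_surjective _ x
    obtain ⟨y, rfl⟩ := Submodule.Quotient.mk_surjective _ y
    change s • Submodule.Quotient.mk (p := (P.under S • ⊤ : Submodule S (LocalizedModule P.primeCompl B))) x =
      s • Submodule.Quotient.mk y at hxy
    rw [← Submodule.Quotient.mk_smul, ← Submodule.Quotient.mk_smul, Submodule.Quotient.eq, ← smul_sub] at hxy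
    rw [Submodule.Quotient.eq]
    obtain ⟨inv, hinv⟩ : ∃ inv : LocalizedModule P.primeCompl B →ₗ[S] LocalizedModule P.primeCompl B,
        ∀ v, inv (s • v) = v :=
      ⟨(LinearEquiv.ofBijective (LinearMap.lsmul S _ s) hb).symm.toLinearMap,
        fun v => (LinearEquiv.ofBijective (LinearMap.lsmul S _ s) hb).symm_apply_apply v⟩
    rw [← hinv (x - y)]
    exact Submodule.smul_induction_on hxy (fun r hr n _ => by
      rw [map_smul]; exact Submodule.smul_mem_smul hr trivial) fun u v hu hv => by rw [map_add]; exact add_mem hu hv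
  · intro y
    obtain ⟨y, rfl⟩ := Submodule.Quotient.mk_surjective _ y
    obtain ⟨x, rfl⟩ := hb.2 y
    exact ⟨Submodule.Quotient.mk (p := (P.under S • ⊤ : Submodule S (LocalizedModule P.primeCompl B))) x,
      (Submodule.Quotient.mk_smul _ s x).symm⟩

end Groth.FlatDescent.CM
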