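import Groth.Agent.FlatDescent.CM.Affine
import Groth.Agent.FlatDescent.CM.Transcend
import Groth.Agent.FlatDescent.Critere
import Groth.Agent.FlatDescent.Slicing.QuasiFinite
import Groth.Agent.GeomUnib.AffineSpaceChart

/-!
# Cohen–Macaulay points have flat quasi-finite maps to affine space
-/

universe u

open CategoryTheory CategoryTheory.Limits AlgebraicGeometry MvPolynomial LocCoh

namespace Groth.FlatDescent.CM

/-- A flat quasi-finite map to affine space at a Cohen–Macaulay point, affine form. -/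
theorem exists_affine_chart_of_isCMAt {A C : Type u} [CommRing A] [CommRing C] [Algebra A C]
    [Algebra.FinitePresentation A C] (P : PrimeSpectrum C)
    (h : MoreMor.IsCMAt (Spec.map (CommRingCat.ofHom (algebraMap A C))) P) :
    ∃ (C' : CommRingCat.{u}) (j : Spec C' ⟶ Spec (CommRingCat.of C)) (_ : IsOpenImmersion j) (N : ℕ)
      (Φ : CommRingCat.of (MvPolynomial (Fin N) A) ⟶ C'),
      Spec.map Φ ≫ Spec.map (CommRingCat.ofHom (algebraMap A (MvPolynomial (Fin N) A))) =
        j ≫ Spec.map (CommRingCat.ofHom (algebraMap A C)) ∧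
      ∃ w, j w = P ∧ ((Spec.map Φ).stalkMap w).hom.Flat ∧ (Spec.map Φ).QuasiFiniteAt w := by
  obtain ⟨hflatA, hcm⟩ := (isCMAt_Spec_iff P (Localization.AtPrime P.asIdeal)).mp h
  obtain ⟨m, φ, hgen, hmax⟩ := exists_transcend (A := A) P.asIdeal
  let A₁ := MvPolynomial (Fin m) A
  letI : Algebra A₁ C := φ.toRingHom.toAlgebra
  haveI : IsScalarTower A A₁ C := IsScalarTower.of_algebraMap_eq fun a => (φ.commutes a).symm
  haveI : Algebra.FinitePresentation A₁ C := Algebra.FinitePresentation.of_restrict_scalars_finitePresentation A _ C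
  let g := Spec.map (CommRingCat.ofHom (algebraMap A₁ C))
  let f₀ := Spec.map (CommRingCat.ofHom (algebraMap A C))
  have hg0 : g ≫ Spec.map (CommRingCat.ofHom (algebraMap A A₁)) = f₀ := by
    rw [← Spec.map_comp, ← CommRingCat.ofHom_comp, ← IsScalarTower.algebraMap_eq]
  haveI : LocallyOfFinitePresentation g :=
    (HasRingHomProperty.Spec_iff (P := @LocallyOfFinitePresentation)).mpr (RingHom.finitePresentation_algebraMap.mpr ‹_›)
  have hcmg : MoreMor.IsCMAt g P := by
    refine (isCMAt_Spec_iff P (Localization.AtPrime P.asIdeal)).mpr ⟨flatAt_of_generic P.asIdeal hgen hflatA, ?_⟩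
    have : (P.asIdeal.under A₁).map (algebraMap A₁ (Localization.AtPrime P.asIdeal)) =
        (P.asIdeal.under A).map (algebraMap A (Localization.AtPrime P.asIdeal)) := by
      rw [show P.asIdeal.under A₁ = (P.asIdeal.under A).map (algebraMap A A₁) from hgen, Ideal.map_map,
        ← IsScalarTower.algebraMap_eq]
    rw [this]
    exact hcm
  have hcl : IsClosed ({g.asFiber P} : Set (g.fiber (g P))) := by
    refine closure_subset_iff_isClosed.mp fun v hv => Set.mem_singleton_iff.mpr ?_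
    apply (g.fiberι (g P)).isEmbedding.injective
    rw [Scheme.Hom.fiberι_asFiber]
    have hsp := (specializes_iff_mem_closure.mpr hv).map (g.fiberι (g P)).continuous
    rw [Scheme.Hom.fiberι_asFiber] at hsp
    have hgv : g (g.fiberι (g P) v) = g P := (g.range_fiberι (g P)).le ⟨v, rfl⟩
    exact PrimeSpectrum.ext (hmax _ (g.fiberι (g P) v).isPrime ((PrimeSpectrum.le_iff_specializes P _).mpr hsp)
      (congrArg PrimeSpectrum.asIdeal hgv))
  obtain ⟨V, U, hV, hU, e, n, b, hfl, hmem, -, huniq⟩ := Slicing.exists_quasiFinite_slice g P hcmg hcl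
  let r := Spec.preimage hV.fromSpec
  let j := hU.fromSpec
  let ψ₁ := r ≫ g.appLE V U e
  have hψ₁ : Spec.map ψ₁ = j ≫ g := by
    rw [Spec.map_comp, Spec.map_preimage, IsAffineOpen.SpecMap_appLE_fromSpec g hV hU e]
  have hr : r.hom.Flat := by
    rw [← Flat.SpecMap_iff, Spec.map_preimage]
    infer_instance
  let Φ₁ : MvPolynomial (Fin n) A₁ →+* Γ(Spec (CommRingCat.of C), U) := eval₂Hom ψ₁.hom b
  have hΦ₁ : Φ₁.Flat := by
    letI := r.hom.toAlgebra
    haveI : Module.Flat A₁ Γ(Spec (CommRingCat.of A₁), V) := hr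
    have hc : Φ₁ = (eval₂Hom (g.appLE V U e).hom b).comp (map (algebraMap A₁ Γ(Spec (CommRingCat.of A₁), V))) := by
      refine MvPolynomial.ringHom_ext (fun a => ?_) fun i => ?_
      · show eval₂Hom ψ₁.hom b (MvPolynomial.C a) = eval₂Hom (g.appLE V U e).hom b (map _ (MvPolynomial.C a))
        rw [map_C, eval₂Hom_C, eval₂Hom_C]
        rfl
      · show eval₂Hom ψ₁.hom b (MvPolynomial.X i) = eval₂Hom (g.appLE V U e).hom b (map _ (MvPolynomial.X i))
        rw [map_X, eval₂Hom_X', eval₂Hom_X']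
    rw [hc]
    exact RingHom.Flat.comp (flat_map (Fin n)) hfl
  let ε : MvPolynomial (Fin (n + m)) A ≃ₐ[A] MvPolynomial (Fin n) A₁ :=
    (renameEquiv A finSumFinEquiv.symm).trans (sumAlgEquiv A (Fin n) (Fin m))
  let Φ : CommRingCat.of (MvPolynomial (Fin (n + m)) A) ⟶ Γ(Spec (CommRingCat.of C), U) :=
    CommRingCat.ofHom (Φ₁.comp ε.toRingEquiv.toRingHom)
  have hΦ : Φ.hom.Flat := RingHom.Flat.comp (RingHom.Flat.of_bijective ε.bijective) hΦ₁
  have hΦC : CommRingCat.ofHom (algebraMap A (MvPolynomial (Fin (n + m)) A)) ≫ Φ =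
      CommRingCat.ofHom (algebraMap A A₁) ≫ ψ₁ := by
    ext a
    show Φ₁ (ε (algebraMap A _ a)) = ψ₁ (algebraMap A A₁ a)
    rw [ε.commutes, IsScalarTower.algebraMap_apply A A₁ (MvPolynomial (Fin n) A₁), MvPolynomial.algebraMap_eq]
    exact eval₂Hom_C _ _ _
  have hover : Spec.map Φ ≫ Spec.map (CommRingCat.ofHom (algebraMap A (MvPolynomial (Fin (n + m)) A))) = j ≫ f₀ := by
    rw [← Spec.map_comp, hΦC, Spec.map_comp, hψ₁, Category.assoc, hg0]
  obtain ⟨z, hz⟩ := hmem
  rw [Scheme.Hom.comp_apply] at hz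
  let w := Spec.map (CommRingCat.ofHom (Ideal.Quotient.mk (Ideal.span (Set.range b)))) z
  haveI : Flat (Spec.map Φ) := Flat.SpecMap_iff.mpr hΦ
  refine ⟨_, j, inferInstance, n + m, Φ, hover, w, hz, Flat.stalkMap _ w, ?_⟩
  rw [Groth.Agent.GeomUnib.quasiFiniteAt_Spec_iff]
  letI := Φ.hom.toAlgebra
  haveI : LocallyOfFiniteType (Spec.map Φ ≫ Spec.map (CommRingCat.ofHom (algebraMap A (MvPolynomial (Fin (n + m)) A)))) := by
    rw [hover]
    haveI : LocallyOfFiniteType f₀ := (HasRingHomProperty.Spec_iff (P := @LocallyOfFiniteType)).mpr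
      (RingHom.finiteType_algebraMap.mpr inferInstance)
    infer_instance
  haveI : LocallyOfFiniteType (Spec.map Φ) := locallyOfFiniteType_of_comp _
    (Spec.map (CommRingCat.ofHom (algebraMap A (MvPolynomial (Fin (n + m)) A))))
  haveI : Algebra.FiniteType (MvPolynomial (Fin (n + m)) A) Γ(Spec (CommRingCat.of C), U) :=
    RingHom.finiteType_algebraMap.mp ((HasRingHomProperty.Spec_iff (P := @LocallyOfFiniteType)).mp ‹LocallyOfFiniteType (Spec.map Φ)›)
  refine Algebra.QuasiFiniteAt.of_isOpen_singleton_fiber w ?_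
  convert isOpen_univ
  ext ⟨w', hw'⟩
  simp only [Set.mem_singleton_iff, Set.mem_univ, iff_true, Subtype.mk.injEq]
  have hw'' : w'.asIdeal.comap Φ.hom = w.asIdeal.comap Φ.hom := congrArg PrimeSpectrum.asIdeal hw'
  have hcomap : w'.asIdeal.comap Φ₁ = w.asIdeal.comap Φ₁ := by
    refine Ideal.comap_injective_of_surjective ε.toRingEquiv.toRingHom ε.surjective ?_
    rw [Ideal.comap_comap, Ideal.comap_comap]
    exact hw''
  have hJ : ∀ i, b i ∈ w'.asIdeal := fun i => by
    have h1 : (MvPolynomial.X i : MvPolynomial (Fin n) A₁) ∈ w.asIdeal.comap Φ₁ := by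
      rw [Ideal.mem_comap]
      show eval₂Hom ψ₁.hom b (MvPolynomial.X i) ∈ w.asIdeal
      rw [eval₂Hom_X']
      show Ideal.Quotient.mk (Ideal.span (Set.range b)) (b i) ∈ z.asIdeal
      rw [Ideal.Quotient.eq_zero_iff_mem.mpr (Ideal.subset_span (Set.mem_range_self i))]
      exact zero_mem _
    rw [← hcomap, Ideal.mem_comap] at h1
    change eval₂Hom ψ₁.hom b (MvPolynomial.X i) ∈ w'.asIdeal at h1
    rwa [eval₂Hom_X'] at h1
  have hC : ψ₁.hom = Φ₁.comp (MvPolynomial.C) := RingHom.ext fun a => (eval₂Hom_C ψ₁.hom b a).symm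
  have hgw : g (j w') = g (j w) := by
    rw [← Scheme.Hom.comp_apply, ← Scheme.Hom.comp_apply, ← hψ₁]
    refine PrimeSpectrum.ext ?_
    show w'.asIdeal.comap ψ₁.hom = w.asIdeal.comap ψ₁.hom
    rw [hC, ← Ideal.comap_comap, ← Ideal.comap_comap, hcomap]
  have hrange : j w' ∈ Set.range
      (Spec.map (CommRingCat.ofHom (Ideal.Quotient.mk (Ideal.span (Set.range b)))) ≫ hU.fromSpec) := by
    obtain ⟨z', rfl⟩ : w' ∈ Set.range (PrimeSpectrum.comap (Ideal.Quotient.mk (Ideal.span (Set.range b)))) := by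
      rw [range_comap_of_surjective _ _ Ideal.Quotient.mk_surjective, Ideal.mk_ker, PrimeSpectrum.mem_zeroLocus]
      rw [SetLike.coe_subset_coe, Ideal.span_le]
      rintro _ ⟨i, rfl⟩
      exact hJ i
    exact ⟨z', rfl⟩
  have hjw : j w = P := hz
  exact j.isOpenEmbedding.injective ((huniq _ hrange (by rw [hgw, hjw])).trans hjw.symm)

end Groth.FlatDescent.CM
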