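import Groth.Agent.FlatAscent.Local
import Groth.Agent.FlatDepthFormula.Basic
import Groth.Agent.DepthLib.RegularLocal
import Groth.Agent.DepthLib.CMModule

/-!
# Cohen–Macaulay along flat local homomorphisms
-/

universe u

open IsLocalRing LocCoh Groth.Agent.DepthLib
open scoped TensorProduct

namespace Groth.FlatDescent.CM

theorem cm_ringEquiv {R R' : Type u} [CommRing R] [CommRing R'] (e : R ≃+* R') (h : IsCohenMacaulayLocalRing R) :
    IsCohenMacaulayLocalRing R' := by
  haveI := h
  haveI : IsNoetherianRing R' := isNoetherianRing_of_ringEquiv R e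
  haveI : Nontrivial R' := e.symm.toEquiv.nontrivial
  haveI : IsLocalRing R' := IsLocalRing.of_surjective' (e : R →+* R') e.surjective
  letI := (e : R →+* R').toAlgebra
  have hs : Function.Surjective (algebraMap R R') := e.surjective
  refine isCohenMacaulayLocalRing_iff.mpr (le_of_eq ?_)
  rw [ringKrullDim_eq_of_ringEquiv e.symm, ringKrullDim_eq_depth (R := R), depth_eq_of_surjective (M := R') hs]
  congr 1
  exact depth_congr ({ e with map_smul' := fun r x => map_mul e r x } : R ≃ₗ[R] R')

/-- For a flat local homomorphism, the source is Cohen–Macaulay iff the target and the closed fibre are. -/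
theorem cm_iff_of_flat (R S : Type u) [CommRing R] [CommRing S] [IsLocalRing R] [IsLocalRing S]
    [IsNoetherianRing R] [IsNoetherianRing S] [Algebra R S] [IsLocalHom (algebraMap R S)] [Module.Flat R S] :
    IsCohenMacaulayLocalRing S ↔
      IsCohenMacaulayLocalRing R ∧ IsCohenMacaulayLocalRing (S ⧸ (maximalIdeal R).map (algebraMap R S)) := by
  let J := (maximalIdeal R).map (algebraMap R S)
  haveI : IsLocalRing (S ⧸ J) := Groth.Agent.FlatAscent.isLocalRing_fibre R S
  haveI : IsNoetherianRing (S ⧸ J) := inferInstance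
  have hd := Groth.Agent.FlatDepthFormula.depth_tensor (A := R) (B := S) (M := S) R
  rw [depth_congr (TensorProduct.AlgebraTensorModule.rid R S S),
    depth_congr ((Groth.Agent.FlatDepthFormula.tensorQuot (B := S) S (maximalIdeal R)).trans
      (Submodule.quotEquivOfEq _ J (by rw [smul_eq_mul, Ideal.mul_top]))),
    ← depth_eq_of_surjective (S := S ⧸ J) (M := S ⧸ J) Ideal.Quotient.mk_surjective] at hd
  have hdim := Groth.Agent.FlatAscent.ringKrullDim_eq_add R S
  have le : ∀ (T : Type u) [CommRing T] [IsLocalRing T] [IsNoetherianRing T],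
      ∃ d k : ℕ, ringKrullDim T = d ∧ depth T T = k ∧ k ≤ d := by
    intro T _ _ _
    obtain ⟨d, hd⟩ := exists_nat_supportDim (R := T) T
    obtain ⟨k, hk⟩ := exists_nat_depth (R := T) T
    refine ⟨d, k, (Module.supportDim_self_eq_ringKrullDim (R := T)).symm.trans hd, hk, ?_⟩
    have h := depth_le_supportDim (R := T) T
    rw [hd, hk] at h
    exact_mod_cast h
  obtain ⟨dR, kR, hdR, hkR, hR⟩ := le R
  obtain ⟨dS, kS, hdS, hkS, hS⟩ := le S
  obtain ⟨dF, kF, hdF, hkF, hF⟩ := le (S ⧸ J)
  rw [hkR, hkS, hkF] at hd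
  change ringKrullDim S = ringKrullDim R + ringKrullDim (S ⧸ J) at hdim
  rw [hdR, hdS, hdF] at hdim
  have hd' : kS = kR + kF := by exact_mod_cast hd
  have hdim' : dS = dR + dF := by exact_mod_cast hdim
  have key : ∀ (T : Type u) [CommRing T] [IsLocalRing T] [IsNoetherianRing T] (d k : ℕ), ringKrullDim T = d → depth T T = k →
      (IsCohenMacaulayLocalRing T ↔ d ≤ k) := by
    intro T _ _ _ d k h1 h2
    rw [isCohenMacaulayLocalRing_iff, h1, h2]
    exact ⟨fun h => by exact_mod_cast h, fun h => by exact_mod_cast h⟩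
  rw [key S dS kS hdS hkS, key R dR kR hdR hkR, key (S ⧸ J) dF kF hdF hkF]
  omega

end Groth.FlatDescent.CM
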